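import Cfsg.Agent.Lib.InvChar.SporData.O7.Data

set_option autoImplicit false
set_option maxRecDepth 100000

namespace CfsgLib.InvChar.Coset.O7Three

theorem orbit0 : ∀ j < 702, Table.OrbitOK tab0 [[0], [1], [2], [3], [4], [5], [6], [7]] orb0Pts orb0Pos orb0Par 702 j :=
  fun j hj => Table.chkOrbit_get tab0 [[0], [1], [2], [3], [4], [5], [6], [7]] orb0Pts orb0Pos orb0Par 702 702 0 (by decide +kernel) j (Nat.zero_le j) (by omega)

theorem base0 : field orb0Pts 128 20 0 = 336 := by decide +kernel

theorem derived1 : tab0.chkDerived tab1 words1 2187 0 = true := by decide +kernel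

theorem orbit1 : ∀ j < 252, Table.OrbitOK tab1 [[0], [1], [2], [3], [4], [5]] orb1Pts orb1Pos orb1Par 252 j :=
  fun j hj => Table.chkOrbit_get tab1 [[0], [1], [2], [3], [4], [5]] orb1Pts orb1Pos orb1Par 252 252 0 (by decide +kernel) j (Nat.zero_le j) (by omega)

theorem base1 : field orb1Pts 128 20 0 = 1 := by decide +kernel

theorem derived2 : tab1.chkDerived tab2 words2 2187 0 = true := by decide +kernel

theorem orbit2 : ∀ j < 90, Table.OrbitOK tab2 [[0], [1], [2], [3], [4], [5]] orb2Pts orb2Pos orb2Par 90 j :=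
  fun j hj => Table.chkOrbit_get tab2 [[0], [1], [2], [3], [4], [5]] orb2Pts orb2Pos orb2Par 90 90 0 (by decide +kernel) j (Nat.zero_le j) (by omega)

theorem base2 : field orb2Pts 128 20 0 = 3 := by decide +kernel

theorem derived3 : tab2.chkDerived tab3 words3 2187 0 = true := by decide +kernel

theorem orbit3 : ∀ j < 32, Table.OrbitOK tab3 [[0], [1], [2], [3], [4], [5]] orb3Pts orb3Pos orb3Par 32 j :=
  fun j hj => Table.chkOrbit_get tab3 [[0], [1], [2], [3], [4], [5]] orb3Pts orb3Pos orb3Par 32 32 0 (by decide +kernel) j (Nat.zero_le j) (by omega)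

theorem base3 : field orb3Pts 128 20 0 = 9 := by decide +kernel

theorem derived4 : tab3.chkDerived tab4 words4 2187 0 = true := by decide +kernel

theorem orbit4 : ∀ j < 9, Table.OrbitOK tab4 [[0], [1], [2], [3], [4], [5]] orb4Pts orb4Pos orb4Par 9 j :=
  fun j hj => Table.chkOrbit_get tab4 [[0], [1], [2], [3], [4], [5]] orb4Pts orb4Pos orb4Par 9 9 0 (by decide +kernel) j (Nat.zero_le j) (by omega)

theorem base4 : field orb4Pts 128 20 0 = 81 := by decide +kernel

theorem card_ge {R : Subgroup (Equiv.Perm (Fin 2187))} (r0 : tab0.Realises R) : 4585351680 ≤ Nat.card R := by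
  have r1' := r0.derived tab0 tab1 words1 (by decide +kernel) (by decide +kernel) derived1
  have r1 := Table.Realises.inf_stabilizer (T := tab1) r1' (⟨336, by norm_num⟩ : Fin 2187) (by intro x hx; have hx : x < 6 := hx; revert x; decide +kernel)
  have r2' := r1.derived tab1 tab2 words2 (by decide +kernel) (by decide +kernel) derived2
  have r2 := Table.Realises.inf_stabilizer (T := tab2) r2' (⟨1, by norm_num⟩ : Fin 2187) (by intro x hx; have hx : x < 6 := hx; revert x; decide +kernel)
  have r3' := r2.derived tab2 tab3 words3 (by decide +kernel) (by decide +kernel) derived3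
  have r3 := Table.Realises.inf_stabilizer (T := tab3) r3' (⟨3, by norm_num⟩ : Fin 2187) (by intro x hx; have hx : x < 6 := hx; revert x; decide +kernel)
  have r4' := r3.derived tab3 tab4 words4 (by decide +kernel) (by decide +kernel) derived4
  have r4 := Table.Realises.inf_stabilizer (T := tab4) r4' (⟨9, by norm_num⟩ : Fin 2187) (by intro x hx; have hx : x < 6 := hx; revert x; decide +kernel)
  have c4 := Table.card_ge_step (T := tab4) (n := 2187) rfl r4 (S := [[0], [1], [2], [3], [4], [5]]) (by decide +kernel) (by decide) orbit4 ⟨81, by norm_num⟩ base4.symm (Nat.succ_le_of_lt Nat.card_pos)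
  have c3 := Table.card_ge_step (T := tab3) (n := 2187) rfl r3 (S := [[0], [1], [2], [3], [4], [5]]) (by decide +kernel) (by decide) orbit3 ⟨9, by norm_num⟩ base3.symm c4
  have c2 := Table.card_ge_step (T := tab2) (n := 2187) rfl r2 (S := [[0], [1], [2], [3], [4], [5]]) (by decide +kernel) (by decide) orbit2 ⟨3, by norm_num⟩ base2.symm c3
  have c1 := Table.card_ge_step (T := tab1) (n := 2187) rfl r1 (S := [[0], [1], [2], [3], [4], [5]]) (by decide +kernel) (by decide) orbit1 ⟨1, by norm_num⟩ base1.symm c2
  have c0 := Table.card_ge_step (T := tab0) (n := 2187) rfl r0 (S := [[0], [1], [2], [3], [4], [5], [6], [7]]) (by decide +kernel) (by decide) orbit0 ⟨336, by norm_num⟩ base0.symm c1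
  exact le_trans (le_of_eq (by norm_num)) c0

end CfsgLib.InvChar.Coset.O7Three
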